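import Mathlib.Algebra.Category.ModuleCat.Ext.HasExt
import Mathlib.Algebra.Category.ModuleCat.Algebra
import Mathlib.Algebra.Category.ModuleCat.Projective
import Mathlib.Algebra.Homology.DerivedCategory.Ext.ExactSequences
import Mathlib.Algebra.Homology.DerivedCategory.Ext.EnoughProjectives
import Mathlib.Algebra.Homology.DerivedCategory.Ext.Linear
import Mathlib.RingTheory.MvPowerSeries.Basic
import Mathlib.RingTheory.MvPowerSeries.NoZeroDivisors
import Mathlib.Algebra.Homology.ShortComplex.ModuleCat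
import Mathlib.Tactic

/-!
# `Ext¹` between the two branches of a node
-/

set_option autoImplicit false
set_option linter.style.haveILetI false
set_option backward.isDefEq.respectTransparency false
set_option backward.isDefEq.respectTransparency.types false

universe u

open CategoryTheory CategoryTheory.Abelian

namespace Groth.Agent.NodeExt

variable {k R : Type u} [Field k] [CommRing R] [Algebra k R]

/-- `Ext¹(R/(y), R/(x))` is one dimensional when `ann y = (x)` and `R = k + (x, y)` properly. -/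
theorem finrank_ext_eq_one (x y : R) (hann : ∀ r : R, r * y = 0 ↔ r ∈ Ideal.span {x})
    (hgen : ∀ r : R, ∃ c : k, ∃ a b : R, r = algebraMap k R c + a * x + b * y)
    (hproper : ∀ a b : R, (1 : R) ≠ a * x + b * y) :
    Module.finrank k (Ext (ModuleCat.of R (R ⧸ Ideal.span {y})) (ModuleCat.of R (R ⧸ Ideal.span {x})) 1) = 1 := by
  let f₀ : (R ⧸ Ideal.span {x}) →ₗ[R] R :=
    Submodule.liftQ _ (LinearMap.mulRight R y) (fun r hr => LinearMap.mem_ker.2 ((hann r).2 hr))
  have hf₀ : ∀ r : R, f₀ (Ideal.Quotient.mk _ r) = r * y := fun r => rfl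
  let g₀ : R →ₗ[R] (R ⧸ Ideal.span {y}) := Submodule.mkQ _
  let N : ModuleCat.{u} R := ModuleCat.of R (R ⧸ Ideal.span {x})
  let f : N ⟶ ModuleCat.of R R := ModuleCat.ofHom f₀
  let g : ModuleCat.of R R ⟶ ModuleCat.of R (R ⧸ Ideal.span {y}) := ModuleCat.ofHom g₀
  let S : ShortComplex (ModuleCat.{u} R) := ShortComplex.mk f g (by
    refine ModuleCat.hom_ext (LinearMap.ext fun z => ?_)
    obtain ⟨r, rfl⟩ := Ideal.Quotient.mk_surjective z
    show g₀ (f₀ (Ideal.Quotient.mk _ r)) = 0
    rw [hf₀]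
    exact (Submodule.Quotient.mk_eq_zero _).2 (Ideal.mem_span_singleton'.2 ⟨r, rfl⟩))
  have hS : S.ShortExact :=
    { exact := by
        rw [ShortComplex.moduleCat_exact_iff]
        intro (z : R) (hz : g₀ z = 0)
        obtain ⟨r, hr⟩ := Ideal.mem_span_singleton'.1 ((Submodule.Quotient.mk_eq_zero _).1 hz)
        exact ⟨Ideal.Quotient.mk _ r, (hf₀ r).trans hr⟩
      mono_f := (ModuleCat.mono_iff_injective _).2 ((injective_iff_map_eq_zero f₀).2 fun z hz => by
        obtain ⟨r, rfl⟩ := Ideal.Quotient.mk_surjective z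
        rw [hf₀] at hz
        exact Ideal.Quotient.eq_zero_iff_mem.2 ((hann r).1 hz))
      epi_g := (ModuleCat.epi_iff_surjective _).2 (Submodule.mkQ_surjective _) }
  haveI : Projective S.X₂ := inferInstanceAs (Projective (ModuleCat.of R R))
  let e : Ext S.X₃ N 1 := hS.extClass.comp (Ext.mk₀ (𝟙 N)) (add_zero 1)
  have hkill : ∀ h : S.X₂ ⟶ N, hS.extClass.comp (Ext.mk₀ (S.f ≫ h)) (add_zero 1) = 0 := fun h => by
    rw [← Ext.mk₀_comp_mk₀, ← Ext.comp_assoc hS.extClass (Ext.mk₀ S.f) (Ext.mk₀ h) (add_zero 1) (zero_add 0)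
      (show 1 + 0 + 0 = 1 from rfl), hS.extClass_comp, Ext.zero_comp]
  refine finrank_eq_one e ?_ fun w => ?_
  · intro he
    obtain ⟨x₂, hx₂⟩ := Ext.contravariant_sequence_exact₁ hS N (Ext.mk₀ (𝟙 N)) (add_zero 1) he
    obtain ⟨h, rfl⟩ := (Ext.mk₀_bijective S.X₂ N).2 x₂
    rw [Ext.mk₀_comp_mk₀] at hx₂
    have e1 : S.f ≫ h = 𝟙 N := (Ext.mk₀_bijective N N).1 hx₂
    obtain ⟨b, hb⟩ := Ideal.Quotient.mk_surjective (h.hom (1 : R) : R ⧸ Ideal.span {x})
    have e2 : h.hom (f₀ (Ideal.Quotient.mk _ 1)) = Ideal.Quotient.mk (Ideal.span {x}) 1 :=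
      congrArg (fun t : N ⟶ N => t.hom (Ideal.Quotient.mk (Ideal.span {x}) 1)) e1
    rw [hf₀, one_mul, show (y : R) = y • (1 : R) by simp, LinearMap.map_smul] at e2
    replace e2 : Ideal.Quotient.mk (Ideal.span {x}) (y * b) = Ideal.Quotient.mk (Ideal.span {x}) 1 :=
      (by rw [map_mul, hb]; rfl : Ideal.Quotient.mk (Ideal.span {x}) (y * b) = y • h.hom (1 : R)).trans e2
    obtain ⟨a, ha⟩ := Ideal.mem_span_singleton'.1 (Ideal.Quotient.eq.1 e2.symm)
    exact hproper a b (by linear_combination -ha)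
  · obtain ⟨φ', rfl⟩ := Ext.contravariant_sequence_exact₃ hS N w
      ((Ext.mk₀ S.g).comp w (zero_add 1)).eq_zero_of_projective (add_zero 1)
    obtain ⟨φ, rfl⟩ := (Ext.mk₀_bijective S.X₁ N).2 φ'
    obtain ⟨r, hr⟩ := Ideal.Quotient.mk_surjective (φ.hom (Ideal.Quotient.mk (Ideal.span {x}) 1) : R ⧸ Ideal.span {x})
    obtain ⟨c, a, b, habc⟩ := hgen r
    refine ⟨c, ?_⟩
    let sc : N ⟶ N := @HSMul.hSMul k (N ⟶ N) (N ⟶ N)
      (@instHSMul k (N ⟶ N) (CategoryTheory.Linear.homModule (R := k) N N).toDistribMulAction.toDistribSMul.toSMul) c (𝟙 N)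
    let h : S.X₂ ⟶ N := ModuleCat.ofHom (LinearMap.toSpanSingleton R _ (Ideal.Quotient.mk (Ideal.span {x}) b))
    have hφ : φ = sc + S.f ≫ h := by
      refine ModuleCat.hom_ext (LinearMap.ext fun z => ?_)
      obtain ⟨s, rfl⟩ := Ideal.Quotient.mk_surjective z
      have hs : (Ideal.Quotient.mk (Ideal.span {x}) s : R ⧸ Ideal.span {x}) =
          s • Ideal.Quotient.mk (Ideal.span {x}) 1 := by simp [Algebra.smul_def]
      rw [hs, LinearMap.map_smul, LinearMap.map_smul]
      congr 1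
      refine hr.symm.trans ?_
      have key : ∀ z : R ⧸ Ideal.span {x}, sc.hom z = algebraMap k R c • z := fun z => rfl
      refine Eq.trans ?_ (congrArg₂ (· + ·) (key (Ideal.Quotient.mk _ 1)) rfl).symm
      show Ideal.Quotient.mk _ r = algebraMap k R c • Ideal.Quotient.mk (Ideal.span {x}) 1 +
        (1 * y) • Ideal.Quotient.mk (Ideal.span {x}) b
      rw [habc, one_mul, Algebra.smul_def, Algebra.smul_def]
      simp only [Ideal.Quotient.algebraMap_eq, ← map_mul, ← map_add, mul_one]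
      refine Ideal.Quotient.eq.2 (Ideal.mem_span_singleton'.2 ⟨a, by ring⟩)
    rw [hφ, Ext.mk₀_add, Ext.comp_add, hkill, add_zero]
    exact ((congrArg (fun t => hS.extClass.comp t (add_zero 1)) (Ext.mk₀_smul c (𝟙 N))).trans (Ext.comp_smul _ _ _ c)).symm

section PowerSeries

open MvPowerSeries

variable (k)

/-- Power series in two variables: constant term plus multiples of the variables. -/
theorem exists_decomp (f : MvPowerSeries (Fin 2) k) :
    ∃ a b : MvPowerSeries (Fin 2) k, f = C (constantCoeff f) + a * X 0 + b * X 1 := by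
  let g : MvPowerSeries (Fin 2) k := fun m => if m 0 = 0 then coeff m f else 0
  have hg : ∀ m, coeff m g = if m 0 = 0 then coeff m f else 0 := fun m => rfl
  obtain ⟨a, ha⟩ : (X 0 : MvPowerSeries (Fin 2) k) ∣ f - g :=
    X_dvd_iff.2 fun m hm => by rw [map_sub, hg, if_pos hm, sub_self]
  obtain ⟨b, hb⟩ : (X 1 : MvPowerSeries (Fin 2) k) ∣ g - C (constantCoeff f) :=
    X_dvd_iff.2 fun m hm => by
      classical
      rw [map_sub, hg, coeff_C]
      by_cases h0 : m 0 = 0
      · have hm0 : m = 0 := Finsupp.ext fun i => by fin_cases i <;> assumption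
        subst hm0
        simp
      · rw [if_neg h0, if_neg fun h => h0 (by simp [h]), sub_zero]
  exact ⟨a, b, by linear_combination ha + hb⟩

/-- The node ring satisfies the hypotheses of `finrank_ext_eq_one`. -/
theorem node_hyps :
    let A := MvPowerSeries (Fin 2) k ⧸ Ideal.span {(X (0 : Fin 2) : MvPowerSeries (Fin 2) k) * X (1 : Fin 2)}
    let x : A := Ideal.Quotient.mk _ (X (0 : Fin 2))
    let y : A := Ideal.Quotient.mk _ (X (1 : Fin 2))
    (∀ r : A, r * y = 0 ↔ r ∈ Ideal.span {x}) ∧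
      (∀ r : A, ∃ c : k, ∃ a b : A, r = algebraMap k A c + a * x + b * y) ∧
      ∀ a b : A, (1 : A) ≠ a * x + b * y := by
  intro A x y
  refine ⟨fun r => ?_, fun r => ?_, fun a b => ?_⟩
  · obtain ⟨r, rfl⟩ := Ideal.Quotient.mk_surjective r
    have hX1 : (X (1 : Fin 2) : MvPowerSeries (Fin 2) k) ≠ 0 := fun h => by
      have := congrArg (coeff (Finsupp.single (1 : Fin 2) 1)) h
      simp [coeff_X] at this
    rw [← map_mul, Ideal.Quotient.eq_zero_iff_mem, Ideal.mem_span_singleton', Ideal.mem_span_singleton']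
    constructor
    · rintro ⟨s, hs⟩
      refine ⟨Ideal.Quotient.mk _ s, ?_⟩
      rw [← map_mul]
      exact congrArg _ (mul_right_cancel₀ hX1 (by rw [← hs]; ring))
    · rintro ⟨s, hs⟩
      obtain ⟨s, rfl⟩ := Ideal.Quotient.mk_surjective s
      rw [← map_mul, Ideal.Quotient.eq, Ideal.mem_span_singleton'] at hs
      obtain ⟨t, ht⟩ := hs
      exact ⟨s - t * X 1, by linear_combination (-(X (1 : Fin 2) : MvPowerSeries (Fin 2) k)) * ht⟩
  · obtain ⟨r, rfl⟩ := Ideal.Quotient.mk_surjective r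
    obtain ⟨a, b, hab⟩ := exists_decomp k r
    refine ⟨constantCoeff r, Ideal.Quotient.mk _ a, Ideal.Quotient.mk _ b, ?_⟩
    conv_lhs => rw [hab]
    simp only [map_add, map_mul]
    rfl
  · obtain ⟨a, rfl⟩ := Ideal.Quotient.mk_surjective a
    obtain ⟨b, rfl⟩ := Ideal.Quotient.mk_surjective b
    intro h
    rw [← map_one (Ideal.Quotient.mk _), ← map_mul, ← map_mul, ← map_add, Ideal.Quotient.eq,
      Ideal.mem_span_singleton'] at h
    obtain ⟨t, ht⟩ := h
    simpa using congrArg constantCoeff ht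

end PowerSeries

end Groth.Agent.NodeExt
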